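import Groth.Agent.CohQC.QuasiAffine
import Groth.Agent.QC.Support
import Mathlib.RingTheory.Ideal.AssociatedPrime.Finiteness
import Mathlib.RingTheory.Nakayama
import Mathlib.Algebra.Module.Torsion.Basic
import Mathlib.LinearAlgebra.Matrix.Charpoly.LinearMap

/-!
# Modules without higher cohomology whose global sections form a noetherian module

If `K` is such a module and `p` is a prime of the ring of global functions such that the basic opens
of elements of `p` cover the scheme, then `Γ(K)` is killed by a function outside `p`.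
-/

set_option autoImplicit false
set_option linter.style.haveILetI false

universe u

open CategoryTheory Category Limits Opposite TopologicalSpace AlgebraicGeometry
open Groth.Agent.SiteCoh Groth.Agent.QC

set_option backward.isDefEq.respectTransparency false

noncomputable section

namespace Groth.Agent.VanQF

variable {V : Scheme.{u}}

/-- Multiplication by a global function. -/
def mulEnd (M : V.Modules) (r : Γ(V, ⊤)) : M ⟶ M :=
  ⟨PresheafOfModules.homMk
    { app := fun W => AddCommGrpCat.ofHom (AddMonoidHom.mk'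
        (fun s : Γ(M, W.unop) => (resO V (le_top : W.unop ≤ ⊤) r : Γ(V, W.unop)) • s) (smul_add _))
      naturality := fun W W' h => by
        ext (s : Γ(M, W.unop))
        change (resO V (le_top : W'.unop ≤ ⊤) r : Γ(V, W'.unop)) • res M (leOfHom h.unop) s =
          res M (leOfHom h.unop) ((resO V (le_top : W.unop ≤ ⊤) r : Γ(V, W.unop)) • s)
        rw [res_smul, resO_resO] }
    fun W (a : Γ(V, W.unop)) (s : Γ(M, W.unop)) => by
      change (resO V (le_top : W.unop ≤ ⊤) r : Γ(V, W.unop)) • a • s =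
        a • (resO V (le_top : W.unop ≤ ⊤) r : Γ(V, W.unop)) • s
      rw [smul_smul, smul_smul, _root_.mul_comm]⟩

lemma mulEnd_app (M : V.Modules) (r : Γ(V, ⊤)) (W : V.Opens) (s : Γ(M, W)) :
    (mulEnd M r).app W s = (resO V (le_top : W ≤ ⊤) r : Γ(V, W)) • s := rfl

lemma cokerSeq_shortExact (M : V.Modules) (r : Γ(V, ⊤)) [Mono (mulEnd M r)] :
    (ShortComplex.mk (mulEnd M r) (cokernel.π (mulEnd M r)) (cokernel.condition _)).ShortExact :=
  { exact := ShortComplex.exact_of_g_is_cokernel _ (cokernelIsCokernel _) }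

lemma eq_zero_of_powers {M : V.Modules} {U : V.Opens} (m : Γ(M, U)) (p : Set Γ(V, ⊤))
    (hp : ∀ v : V, ∃ g ∈ p, v ∈ V.basicOpen g)
    (h : ∀ g ∈ p, ∃ n : ℕ, (resO V (le_top : U ≤ ⊤) g : Γ(V, U)) ^ n • m = 0) : m = 0 := by
  refine section_eq_of_locally fun x hx => ?_
  obtain ⟨g, hg, hxg⟩ := hp x
  obtain ⟨n, hn⟩ := h g hg
  refine ⟨U ⊓ V.basicOpen g, inf_le_left, ⟨hx, hxg⟩, ?_⟩
  rw [map_zero]
  have h1 := congr(res M (inf_le_left : U ⊓ V.basicOpen g ≤ U) $hn)
  rw [res_smul, map_zero, map_pow, resO_resO] at h1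
  have hu : IsUnit (resO V (le_top : U ⊓ V.basicOpen g ≤ ⊤) g) := by
    rw [← resO_resO (inf_le_right : U ⊓ V.basicOpen g ≤ V.basicOpen g) le_top]
    exact (RingedSpace.isUnit_res_basicOpen V.toRingedSpace g).map _
  exact (hu.pow n).smul_eq_zero.mp h1

/-- If every element of a prime is a zero divisor on a noetherian module, some non-zero element is
killed by powers of all elements of the prime. -/
lemma exists_ne_zero_of_zeroDivisors {R M : Type*} [CommRing R] [IsNoetherianRing R] [AddCommGroup M]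
    [Module R M] [Module.Finite R M] (p : Ideal R) (h : ∀ r ∈ p, ∃ m : M, m ≠ 0 ∧ r • m = 0) :
    p = ⊥ ∨ ∃ m : M, m ≠ 0 ∧ ∀ r ∈ p, ∃ n : ℕ, r ^ n • m = 0 := by
  right
  have hsub : (p : Set R) ⊆ ⋃ q ∈ associatedPrimes R M, (q : Set R) := by
    intro r hr
    rw [biUnion_associatedPrimes_eq_zero_divisors]
    obtain ⟨m, hm, hm0⟩ := h r hr
    exact ⟨m, hm, hm0⟩
  obtain ⟨q, hq, hpq⟩ := (Ideal.subset_union_prime_finite (associatedPrimes.finite R M) ⊤ ⊤
    fun q hq _ _ => hq.1).mp hsub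
  obtain ⟨hqp, m, hm⟩ := hq
  refine ⟨m, fun h0 => hqp.ne_top ?_, fun r hr => ?_⟩
  · rw [hm, h0]
    simp
  · have := hpq hr
    rw [hm] at this
    obtain ⟨n, hn⟩ := this
    exact ⟨n, by simpa [Submodule.mem_colon_singleton] using hn⟩

lemma isNoetherianRing_quot_annihilator {R M : Type*} [CommRing R] [AddCommGroup M] [Module R M]
    [IsNoetherian R M] : IsNoetherianRing (R ⧸ Module.annihilator R M) := by
  obtain ⟨k, g, hg⟩ := Module.Finite.exists_fin (R := R) (M := M)
  let φ : R →ₗ[R] (Fin k → M) := LinearMap.pi fun i => LinearMap.toSpanSingleton R M (g i)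
  have hker : LinearMap.ker φ = Module.annihilator R M := by
    ext r
    simp only [LinearMap.mem_ker, Module.mem_annihilator]
    refine ⟨fun h m => ?_, fun h => funext fun i => h (g i)⟩
    have hm : m ∈ Submodule.span R (Set.range g) := hg ▸ Submodule.mem_top
    induction hm using Submodule.span_induction with
    | mem y hy => obtain ⟨i, rfl⟩ := hy; exact congr_fun h i
    | zero => exact smul_zero _
    | add a b _ _ ha hb => rw [smul_add, ha, hb, add_zero]
    | smul c a _ ha => rw [smul_comm, ha, smul_zero]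
  have : IsNoetherian R (R ⧸ Module.annihilator R M) :=
    isNoetherian_of_injective ((Submodule.liftQ (Module.annihilator R M) φ hker.ge))
      (LinearMap.ker_eq_bot.mp (Submodule.ker_liftQ_eq_bot _ _ _ hker.le))
  exact isNoetherian_of_tower R this

/-- If `s` maps a finite module into `p M` with `s ∉ p`, then something outside `p` kills `M`. -/
lemma exists_notMem_smul_eq_zero {R M : Type*} [CommRing R] [AddCommGroup M] [Module R M]
    [Module.Finite R M] (p : Ideal R) [p.IsPrime] {s : R} (hs : s ∉ p)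
    (h : ∀ m : M, s • m ∈ p • (⊤ : Submodule R M)) : ∃ t ∉ p, ∀ m : M, t • m = 0 := by
  obtain ⟨P, hP, hn, hc, h0⟩ :=
    LinearMap.exists_monic_and_natDegree_eq_and_coeff_mem_pow_and_aeval_eq_zero R
      (s • LinearMap.id : M →ₗ[R] M) p (by rintro _ ⟨m, rfl⟩; exact h m)
  refine ⟨P.eval s, fun hmem => ?_, fun m => ?_⟩
  · rw [Polynomial.eval_eq_sum_range, Finset.sum_range_succ] at hmem
    have hrest : ∑ i ∈ Finset.range P.natDegree, P.coeff i * s ^ i ∈ p := by
      refine Ideal.sum_mem _ fun i hi => Ideal.mul_mem_right _ _ ?_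
      rw [Finset.mem_range] at hi
      exact Ideal.pow_le_self (by omega) (hc i)
    have := (Ideal.add_mem_iff_right p hrest).mp hmem
    rw [hP.coeff_natDegree, one_mul] at this
    exact hs (Ideal.IsPrime.mem_of_pow_mem ‹_› _ this)
  · have e : (s • LinearMap.id : M →ₗ[R] M) = algebraMap R (Module.End R M) s := by
      ext; simp [Module.algebraMap_end_apply]
    rw [e, Polynomial.aeval_algebraMap_apply_eq_algebraMap_eval] at h0
    simpa [Module.algebraMap_end_apply] using LinearMap.congr_fun h0 m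

lemma mem_range_of_shortExact {S : ShortComplex V.Modules} (hS : S.ShortExact) (W : V.Opens)
    (t : Γ(S.X₂, W)) : t ∈ Set.range (S.f.app W) ↔ S.g.app W t = 0 := by
  constructor
  · rintro ⟨a, rfl⟩
    change (S.f ≫ S.g).app W a = 0
    rw [S.zero]
    rfl
  · intro ht
    obtain ⟨a, ha⟩ := (QC.mem_range_kernel_app S.g W t).mpr ht
    haveI := hS.mono_f
    obtain ⟨φ, hφ⟩ := KernelFork.IsLimit.lift' hS.fIsKernel (kernel.ι S.g) (kernel.condition _)
    refine ⟨φ.app W a, ?_⟩
    rw [← ha]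
    exact (congr_arg (fun ψ : kernel S.g ⟶ S.X₂ => ψ.app W a) hφ)

lemma eq_zero_of_smul_eq_zero [V.IsQuasiAffine] {K : V.Modules} (hK : Coh.IsQCoh K) {x : Γ(V, ⊤)}
    (hx : ∀ m : Γ(K, ⊤), x • m = 0 → m = 0) (W : V.Opens) (a : Γ(K, W))
    (ha : (resO V (le_top : W ≤ ⊤) x : Γ(V, W)) • a = 0) : a = 0 := by
  have : K.IsQuasicoherent := hK
  refine section_eq_of_locally fun v hv => ?_
  obtain ⟨_, ⟨_, ⟨r, -, rfl⟩, rfl⟩, hvr, hrW⟩ :=
    (Scheme.IsQuasiAffine.isBasis_basicOpen V).exists_subset_of_mem_open hv W.2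
  refine ⟨V.basicOpen r, hrW, hvr, ?_⟩
  rw [map_zero]
  replace hrW : V.basicOpen r ≤ W := hrW
  obtain ⟨n, s, hs⟩ := exists_pow_smul_extends_of_isCompact (M := K) (W := ⊤) (by simpa using isCompact_univ)
    (by simpa using isQuasiSeparated_univ) r (res K hrW a)
  have h0 : res K (V.basicOpen_le r) (x • s) = 0 := by
    rw [res_smul, hs, smul_comm, ← resO_resO hrW (le_top : W ≤ ⊤) x, ← res_smul, ha, map_zero, smul_zero]
  obtain ⟨m, hm⟩ := exists_pow_smul_eq_zero_of_isCompact (M := K) (W := ⊤) (by simpa using isCompact_univ)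
    r (x • s) h0
  rw [smul_comm] at hm
  have h1 := congr(res K (V.basicOpen_le r) $(hx _ hm))
  rw [res_smul, map_pow, hs, smul_smul, ← pow_add, map_zero] at h1
  have hu : IsUnit (resO V (V.basicOpen_le r) r : Γ(V, V.basicOpen r)) :=
    RingedSpace.isUnit_res_basicOpen V.toRingedSpace r
  exact (hu.pow (m + n)).smul_eq_zero.mp h1

theorem exists_annihilator_notMem [V.IsQuasiAffine] (p : Ideal Γ(V, ⊤)) [hpp : p.IsPrime]
    (hp : ∀ v : V, ∃ g ∈ p, v ∈ V.basicOpen g) (K₀ : V.Modules) [IsNoetherian Γ(V, ⊤) Γ(K₀, ⊤)]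
    (hK₀ : Coh.IsQCoh K₀) (hv₀ : ∀ q : ℕ, 0 < q → Subsingleton (Coh.HH V K₀ q)) :
    ∃ s ∉ p, ∀ m : Γ(K₀, ⊤), s • m = 0 := by
  suffices ∀ (N : Submodule Γ(V, ⊤) Γ(K₀, ⊤)) (K : V.Modules) (π : Γ(K₀, ⊤) →ₗ[Γ(V, ⊤)] Γ(K, ⊤)),
      Function.Surjective π → LinearMap.ker π = N → Coh.IsQCoh K →
      (∀ q : ℕ, 0 < q → Subsingleton (Coh.HH V K q)) → ∃ s ∉ p, ∀ m : Γ(K, ⊤), s • m = 0 from
    this ⊥ K₀ LinearMap.id Function.surjective_id LinearMap.ker_id hK₀ hv₀
  intro N
  induction N using (wellFounded_gt (α := Submodule Γ(V, ⊤) Γ(K₀, ⊤))).induction with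
  | h N ih =>
    intro K π hπ hN hK hv
    haveI : Module.Finite Γ(V, ⊤) Γ(K, ⊤) := Module.Finite.of_surjective π hπ
    by_cases hann : ∃ s ∉ p, ∀ m : Γ(K, ⊤), s • m = 0
    · exact hann
    -- a non-zero-divisor in `p`
    obtain ⟨x, hxp, hx⟩ : ∃ x ∈ p, ∀ m : Γ(K, ⊤), x • m = 0 → m = 0 := by
      by_contra hcon
      push Not at hcon
      let A := Module.annihilator Γ(V, ⊤) Γ(K, ⊤)
      have hA : Module.IsTorsionBySet Γ(V, ⊤) Γ(K, ⊤) A := Module.isTorsionBySet_annihilator _ _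
      letI : Module (Γ(V, ⊤) ⧸ A) Γ(K, ⊤) := hA.module
      haveI : IsScalarTower Γ(V, ⊤) (Γ(V, ⊤) ⧸ A) Γ(K, ⊤) := hA.isScalarTower
      haveI : IsNoetherian Γ(V, ⊤) Γ(K, ⊤) := isNoetherian_of_surjective π (LinearMap.range_eq_top.mpr hπ)
      haveI : IsNoetherianRing (Γ(V, ⊤) ⧸ A) := isNoetherianRing_quot_annihilator
      haveI : Module.Finite (Γ(V, ⊤) ⧸ A) Γ(K, ⊤) := Module.Finite.of_restrictScalars_finite Γ(V, ⊤) _ _
      have hzd : ∀ r ∈ p.map (Ideal.Quotient.mk A), ∃ m : Γ(K, ⊤), m ≠ 0 ∧ r • m = 0 := fun r hr => by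
        obtain ⟨a, ha, rfl⟩ := (Ideal.mem_map_iff_of_surjective _ Ideal.Quotient.mk_surjective).mp hr
        obtain ⟨m, hm, hm0⟩ := hcon a ha
        exact ⟨m, hm0, (hA.mk_smul a m).trans hm⟩
      rcases exists_ne_zero_of_zeroDivisors _ hzd with h | ⟨m, hm0, hm⟩
      · refine hann ?_
        obtain ⟨m, hm, hm0⟩ := hcon 0 p.zero_mem
        refine absurd (eq_zero_of_powers m (p : Set Γ(V, ⊤)) hp fun g hg => ⟨1, ?_⟩) hm0
        have hg0 : Ideal.Quotient.mk A g = 0 := by
          have := Ideal.mem_map_of_mem (Ideal.Quotient.mk A) hg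
          rwa [h, Ideal.mem_bot] at this
        rw [pow_one, resO_self]
        exact Module.mem_annihilator.mp (Ideal.Quotient.eq_zero_iff_mem.mp hg0) m
      · refine hm0 (eq_zero_of_powers m (p : Set Γ(V, ⊤)) hp fun g hg => ?_)
        obtain ⟨n, hn⟩ := hm _ (Ideal.mem_map_of_mem (Ideal.Quotient.mk A) hg)
        refine ⟨n, ?_⟩
        rw [resO_self]
        rw [← map_pow, hA.mk_smul] at hn
        exact hn
    -- the quotient by `x`
    haveI : Mono (mulEnd K x) := by
      refine (mono_iff_app_injective _).mpr fun W => ?_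
      rw [injective_iff_map_eq_zero]
      intro a ha
      rw [mulEnd_app] at ha
      exact eq_zero_of_smul_eq_zero hK hx W a ha
    let S : ShortComplex V.Modules :=
      ShortComplex.mk (mulEnd K x) (cokernel.π (mulEnd K x)) (cokernel.condition _)
    have hS : S.ShortExact := cokerSeq_shortExact K x
    have hS' := CohQC.seq_shortExact hS
    let g : Γ(K, ⊤) →ₗ[Γ(V, ⊤)] Γ(S.X₃, ⊤) := appₗ S.g ⊤
    have hg : Function.Surjective g := CohQC.sections_surjective_top hS' (hv 1 one_pos)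
    have hK' : Coh.IsQCoh S.X₃ := isQCoh_cokernel hK hK _
    have hv' : ∀ q : ℕ, 0 < q → Subsingleton (Coh.HH V S.X₃ q) := fun q hq => by
      refine subsingleton_of_forall_eq 0 fun y => ?_
      obtain ⟨z, rfl⟩ := Abelian.Ext.covariant_sequence_exact₃ (constZ (Opens.grothendieckTopology V))
        hS' y rfl (@Subsingleton.elim _ (hv (q + 1) (by omega)) _ _)
      rw [@Subsingleton.elim _ (hv q hq) z 0, Abelian.Ext.zero_comp]
    have hkerg : ∀ a : Γ(K, ⊤), g (x • a) = 0 := fun a => by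
      have : (mulEnd K x ≫ cokernel.π (mulEnd K x)).app ⊤ a = 0 := by rw [cokernel.condition]; rfl
      refine Eq.trans ?_ this
      change (cokernel.π (mulEnd K x)).app ⊤ (x • a) = (cokernel.π (mulEnd K x)).app ⊤ ((mulEnd K x).app ⊤ a)
      rw [mulEnd_app, resO_self]
    have hlt : N < LinearMap.ker (g ∘ₗ π) := by
      refine lt_of_le_of_ne (hN ▸ fun a ha => by rw [LinearMap.mem_ker] at ha ⊢; rw [LinearMap.comp_apply, ha, map_zero])
        fun e => hann ⟨1, (Ideal.ne_top_iff_one p).mp hpp.ne_top, fun a => ?_⟩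
      obtain ⟨b, hb⟩ := hπ (x • a)
      have hbm : b ∈ LinearMap.ker (g ∘ₗ π) := by
        rw [LinearMap.mem_ker, LinearMap.comp_apply, hb, hkerg]
      rw [← e, ← hN, LinearMap.mem_ker, hb] at hbm
      rw [hx a hbm, smul_zero]
    obtain ⟨s, hs, hs0⟩ := ih _ hlt S.X₃ (g ∘ₗ π) (hg.comp hπ) rfl hK' hv'
    refine absurd (exists_notMem_smul_eq_zero p hs fun a => ?_) hann
    have : (cokernel.π (mulEnd K x)).app ⊤ (s • a) = 0 := by
      change g (s • a) = 0
      rw [map_smul]
      exact hs0 _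
    obtain ⟨b, hb⟩ := (mem_range_of_shortExact hS ⊤ (s • a)).mpr this
    rw [← hb]
    change (mulEnd K x).app ⊤ b ∈ _
    rw [mulEnd_app, resO_self]
    exact Submodule.smul_mem_smul hxp Submodule.mem_top

end Groth.Agent.VanQF
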