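import Groth.Prelude.Def_Coh
import Groth.Prelude.Def_CohB1
import Groth.Agent.VanQF.Annih
import Groth.Agent.RPushQC.Acyclic
import Groth.Agent.CohQC.Push
import Groth.Agent.GRLib.Supp
import Mathlib.AlgebraicGeometry.Morphisms.QuasiFinite
import Mathlib.AlgebraicGeometry.Morphisms.Finite
import Mathlib.AlgebraicGeometry.ZariskisMainTheorem
import Mathlib.RingTheory.IntegralClosure.IsIntegral.Basic
import Mathlib.AlgebraicGeometry.Morphisms.QuasiCompact

/-!
Finiteness of a quasi-finite morphism carrying an acyclic coherent module of full support.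
-/

set_option autoImplicit false
set_option linter.style.haveILetI false

universe u

open CategoryTheory Category Limits Opposite TopologicalSpace AlgebraicGeometry
open Groth.Agent.SiteCoh Groth.Agent.QC

set_option backward.isDefEq.respectTransparency false

noncomputable section

namespace Groth.Agent.VanQF

variable {V X : Scheme.{u}}

theorem hu_preimage_vanish (f : V ⟶ X) [HasInjectiveResolutions V.Modules] (K : V.Modules)
    (hvan : ∀ q : ℕ, 0 < q → IsZero ((Coh.Rpush f q).obj K)) {W : X.Opens} (hW : IsAffineOpen W)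
    [QuasiCompact f] [QuasiSeparated f] (hK : Coh.IsQCoh K) (q : ℕ) (hq : 0 < q) :
    Subsingleton (CohSite.HU (Coh.toAb K) q (f ⁻¹ᵁ W)) := by
  have hz : ∀ n, 0 < n → IsZero ((CohTop.Rpush f.base n).obj (Coh.toAb K)) := fun n hn =>
    have ⟨e⟩ := CohQC.toAb_rpush_iso f K n
    ((Functor.map_isZero (SheafOfModules.toSheaf X.ringCatSheaf) (hvan n hn))).of_iso e.symm
  let R := injectiveResolution (Coh.toAb K)
  let e := fun n => R.isoRightDerivedObj (CohTop.push f.base) n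
  obtain ⟨a⟩ := homology_sections (Opens.map f.base) R (J' := Opens.grothendieckTopology X) W
    (fun n p => push_injective_acyclic f.base (R.cocomplex.X n) W p)
    (fun n => by
      obtain ⟨e'⟩ := CohQC.toAb_rpush_iso f K n
      haveI : ((Coh.Rpush f n).obj K).IsQuasicoherent := RPushQC.isQCoh_rpush f K hK n
      exact acyc_of_iso (e' ≪≫ e n) fun p => CohQC.hu_vanish_of_isAffineOpen _ hW p) q
  have h0 : IsZero ((pushCx (Opens.map f.base) R (J' := Opens.grothendieckTopology X)).homology q) :=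
    (hz q hq).of_iso (e q).symm
  have : Subsingleton (((pushCx (Opens.map f.base) R (J' := Opens.grothendieckTopology X)).homology q).obj.obj (op W)) :=
    AddCommGrpCat.subsingleton_of_isZero
      ((Functor.map_isZero ((sheafToPresheaf _ _) ⋙ (evaluation _ _).obj (op W)) h0))
  exact a.toEquiv.subsingleton

theorem isNoetherian_restrict (f : V ⟶ X) (K : V.Modules) [IsLocallyNoetherian X]
    (hpush : Coh.IsCoh ((Coh.push f).obj K)) {W : X.Opens} (hW : IsAffineOpen W) :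
    IsNoetherian Γ((f ⁻¹ᵁ W).toScheme, ⊤) Γ(K.restrict (f ⁻¹ᵁ W).ι, ⊤) := by
  haveI : IsNoetherianRing Γ(X, W) := IsLocallyNoetherian.component_noetherian ⟨W, hW⟩
  haveI : Module.Finite Γ(X, W) Γ((Coh.push f).obj K, W) := (QC.isCoh_iff_finite_sections.mp hpush).2 ⟨W, hW⟩
  let ι := (f ⁻¹ᵁ W).ι
  have hle : ι ''ᵁ ⊤ ≤ f ⁻¹ᵁ W := (Scheme.Opens.ι_image_top _).le
  have hge : f ⁻¹ᵁ W ≤ ι ''ᵁ ⊤ := (Scheme.Opens.ι_image_top _).ge
  let e : Γ((Coh.push f).obj K, W) →+ Γ(K.restrict ι, ⊤) := res K hle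
  have hsmul : ∀ (w : Γ(X, W)) (a : Γ((Coh.push f).obj K, W)), e (w • a) =
      ((ι.appIso ⊤).hom (resO V hle (f.app W w)) : Γ((f ⁻¹ᵁ W).toScheme, ⊤)) • e a := fun w a => by
    change res K hle (@HSMul.hSMul Γ(V, f ⁻¹ᵁ W) Γ(K, f ⁻¹ᵁ W) Γ(K, f ⁻¹ᵁ W) _ (f.app W w) a) =
      ((ι.appIso ⊤).inv ((ι.appIso ⊤).hom (resO V hle (f.app W w))) : Γ(V, ι ''ᵁ ⊤)) • res K hle a
    rw [res_smul]
    exact congr_arg (fun t : Γ(V, ι ''ᵁ ⊤) => t • res K hle (a : Γ(K, f ⁻¹ᵁ W)))
      ((ι.appIso ⊤).hom_inv_id_apply (resO V hle (f.app W w))).symm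
  let T : Submodule Γ((f ⁻¹ᵁ W).toScheme, ⊤) Γ(K.restrict ι, ⊤) → Submodule Γ(X, W) Γ((Coh.push f).obj K, W) :=
    fun N => { carrier := e ⁻¹' N
               add_mem' := fun {a b} ha hb => by
                 simp only [Set.mem_preimage, SetLike.mem_coe, map_add] at ha hb ⊢
                 exact add_mem ha hb
               zero_mem' := by simp
               smul_mem' := fun w a ha => by
                 simp only [Set.mem_preimage, SetLike.mem_coe] at ha ⊢
                 rw [hsmul]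
                 exact N.smul_mem _ ha }
  have hT : StrictMono T := Monotone.strictMono_of_injective (fun _ _ h _ ha => h ha) fun N N' h => by
    ext a
    have ha : e (res K hge (a : Γ(K, ι ''ᵁ ⊤))) = a := (res_res K hle hge _).trans (res_self K _ _)
    rw [← ha]
    exact SetLike.ext_iff.mp h (res K hge (a : Γ(K, ι ''ᵁ ⊤)) : Γ(K, f ⁻¹ᵁ W))
  rw [isNoetherian_iff']
  exact ⟨hT.wellFoundedGT.1⟩

theorem isAffine_of_fullSupport {U : Scheme.{u}} [U.IsQuasiAffine] (K : U.Modules) (hK : Coh.IsQCoh K)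
    (hsupp : CohB1.support K = Set.univ) [IsNoetherian Γ(U, ⊤) Γ(K, ⊤)]
    (hv : ∀ q : ℕ, 0 < q → Subsingleton (Coh.HH U K q)) : IsAffine U := by
  have : K.IsQuasicoherent := hK
  refine isAffine_of_isAffineOpen_basicOpen {r : Γ(U, ⊤) | IsAffineOpen (U.basicOpen r)} ?_ fun r hr => hr
  by_contra hne
  obtain ⟨p, hp, hle⟩ := Ideal.exists_le_maximal _ hne
  haveI := hp.isPrime
  have hb : ∀ v : U, ∃ g ∈ p, v ∈ U.basicOpen g := fun v => by
    obtain ⟨_, ⟨_, ⟨r, hr, rfl⟩, rfl⟩, hvr, -⟩ :=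
      (Scheme.IsQuasiAffine.isBasis_basicOpen U).exists_subset_of_mem_open (Set.mem_univ v) isOpen_univ
    exact ⟨r, hle (Ideal.subset_span hr), hvr⟩
  obtain ⟨s, hs, hs0⟩ := exists_annihilator_notMem p hb K hK hv
  have hbot : ∀ v : U, v ∉ U.basicOpen s := fun v hv => by
    have hmem : v ∈ CohB1.support K := hsupp ▸ trivial
    revert hmem
    obtain ⟨_, ⟨_, ⟨r, hr, rfl⟩, rfl⟩, hvr, -⟩ :=
      (Scheme.IsQuasiAffine.isBasis_basicOpen U).exists_subset_of_mem_open (Set.mem_univ v) isOpen_univ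
    refine (notMem_support_iff_affine hr hvr).mpr fun m => ⟨resO U (U.basicOpen_le r) s, ?_, ?_⟩
    · rw [show U.basicOpen (resO U (U.basicOpen_le r) s) = U.basicOpen r ⊓ U.basicOpen s from
        U.basicOpen_res s (homOfLE (U.basicOpen_le r)).op]
      exact ⟨hvr, hv⟩
    · obtain ⟨n, a, ha⟩ := exists_pow_smul_extends_of_isCompact (M := K) (W := ⊤) (by simpa using isCompact_univ)
        (by simpa using isQuasiSeparated_univ) r m
      have h1 := congr(res K (U.basicOpen_le r) $(hs0 a))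
      rw [res_smul, ha, map_zero, smul_comm] at h1
      have hu : IsUnit (resO U (U.basicOpen_le r) r : Γ(U, U.basicOpen r)) :=
        RingedSpace.isUnit_res_basicOpen U.toRingedSpace r
      exact (hu.pow n).smul_eq_zero.mp h1
  obtain ⟨n, hn⟩ := (Scheme.isNilpotent_iff_basicOpen_eq_bot (X := U) s).mpr
    (le_bot_iff.mp fun v hv => absurd hv (hbot v))
  exact hs (hp.isPrime.mem_of_pow_mem n (by rw [hn]; exact p.zero_mem))

theorem isFinite_of_acyclic [IsNoetherian X] (f : V ⟶ X)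
    [LocallyQuasiFinite f] [LocallyOfFiniteType f] [QuasiCompact f] [IsSeparated f]
    [HasInjectiveResolutions V.Modules]
    (K : V.Modules) (hK : Coh.IsQCoh K) (hsupp : CohB1.support K = Set.univ)
    (hpush : Coh.IsCoh ((Coh.push f).obj K))
    (hvan : ∀ q : ℕ, 0 < q → IsZero ((Coh.Rpush f q).obj K)) : IsFinite f := by
  haveI : K.IsQuasicoherent := hK
  haveI : ((Coh.push f).obj K).IsQuasicoherent := hpush.1
  haveI haff : IsAffineHom f := ⟨fun W hW => by
    let g := f ∣_ W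
    haveI : IsAffine W.toScheme := hW
    haveI : CompactSpace (f ⁻¹ᵁ W).toScheme := isCompact_iff_compactSpace.mp (f.isCompact_preimage hW.isCompact)
    haveI : IsAffine g.normalization := isAffine_of_isAffineHom g.fromNormalization
    haveI : (f ⁻¹ᵁ W).toScheme.IsQuasiAffine := Scheme.IsQuasiAffine.of_isImmersion g.toNormalization
    haveI := isNoetherian_restrict f K hpush hW
    exact isAffine_of_fullSupport (K.restrict (f ⁻¹ᵁ W).ι) inferInstance
      (Set.eq_univ_of_forall fun y => (GRLib.mem_support_restrict_iff _ K y).mpr (hsupp ▸ trivial)) fun q hq => by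
        have ⟨e⟩ := CohQC.hu_restrict K (f ⁻¹ᵁ W) q
        exact @Equiv.subsingleton _ _ e.toEquiv.symm (hu_preimage_vanish f K hvan hW hK q hq)⟩
  refine { toIsAffineHom := haff, finite_app := fun W hW => ?_ }
  have hP := hW.preimage f
  let φ := (f.app W).hom
  have hft : φ.FiniteType := by
    have := f.finiteType_appLE hW hP le_rfl
    rwa [Scheme.Hom.appLE_eq_app] at this
  refine RingHom.finite_iff_isIntegral_and_finiteType.mpr ⟨fun b => ?_, hft⟩
  letI := φ.toAlgebra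
  letI : Module Γ(X, W) Γ(K, f ⁻¹ᵁ W) := Module.compHom _ φ
  haveI : IsScalarTower Γ(X, W) Γ(V, f ⁻¹ᵁ W) Γ(K, f ⁻¹ᵁ W) := ⟨fun a c m => (mul_smul (φ a) c m)⟩
  haveI : Module.Finite Γ(X, W) Γ(K, f ⁻¹ᵁ W) := (QC.isCoh_iff_finite_sections.mp hpush).2 ⟨W, hW⟩
  let L : Γ(K, f ⁻¹ᵁ W) →ₗ[Γ(X, W)] Γ(K, f ⁻¹ᵁ W) :=
    (b • LinearMap.id : Γ(K, f ⁻¹ᵁ W) →ₗ[Γ(V, f ⁻¹ᵁ W)] Γ(K, f ⁻¹ᵁ W)).restrictScalars Γ(X, W)
  obtain ⟨P, hP1, hP0⟩ := Algebra.IsIntegral.isIntegral (R := Γ(X, W)) (A := Module.End Γ(X, W) Γ(K, f ⁻¹ᵁ W)) L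
  have hann : Polynomial.aeval b P ∈ Module.annihilator Γ(V, f ⁻¹ᵁ W) Γ(K, f ⁻¹ᵁ W) := by
    rw [Module.mem_annihilator]
    intro m
    have h1 : Polynomial.aeval ((Algebra.lsmul Γ(X, W) Γ(X, W) Γ(K, f ⁻¹ᵁ W) :
        Γ(V, f ⁻¹ᵁ W) →ₐ[Γ(X, W)] Module.End Γ(X, W) Γ(K, f ⁻¹ᵁ W)) b) P = 0 := hP0
    rw [Polynomial.aeval_algHom_apply] at h1
    exact LinearMap.congr_fun h1 m
  have hnil : IsNilpotent (Polynomial.aeval b P) := by
    rw [← mem_nilradical, nilradical_eq_sInf, Ideal.mem_sInf]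
    intro q hq
    let x : V := hP.fromSpec ⟨q, hq⟩
    have hx : x ∈ f ⁻¹ᵁ W := hP.range_fromSpec.le ⟨_, rfl⟩
    have hs := (QC.mem_moduleSupport_iff (M := K) hP hx).mpr (hsupp ▸ trivial)
    have heq : hP.primeIdealOf ⟨x, hx⟩ = ⟨q, hq⟩ :=
      hP.fromSpec.isOpenEmbedding.injective (hP.fromSpec_primeIdealOf ⟨x, hx⟩)
    rw [heq] at hs
    exact Module.annihilator_le_of_mem_support hs hann
  obtain ⟨n, hn⟩ := hnil
  exact ⟨P ^ n, hP1.pow n, by
    change Polynomial.aeval b (P ^ n) = 0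
    rw [map_pow]
    exact hn⟩

end Groth.Agent.VanQF
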